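import Cfsg.Agent.Mrg.Omega.TTn.DiCoreAbs

section


/-!
# The frame of #15755 without `⋂ U_p = 1` (#18783, helper726): labels in `Fin n`

`FrS ε U W Q w`: the frame `Engine.Fr` without `inter`; `All U x` : `x ∈ Σ = ⋂ U_p`; `core` with `[c, U k l] ≤ Σ`.
`Fr.toS` : every `Fr` is an `FrS`.  `star`: `Lab U y i a` for all `a` gives `y ∈ Σ`.
(The text is that of `Engine/Frame.lean`, helper821.)
-/

set_option autoImplicit false
set_option linter.unusedSectionVars false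

namespace Cfsg.Agent.Omega.NSix.EngineS

open Subgroup Cfsg.Agent.Omega.S5.Def Cfsg.Agent.Omega.NSix.Base
open Cfsg.Agent.Omega.NSix.Engine (D4 D5 KK mem_KK mem_KK' Lab Fr)
open Cfsg.Agent.Omega.TTn.Di (cm cj cj_mul cj_inv cj_cj cj_one cj_eq_of_comm comm_of_cj cj_eq_cm cm_eq
  cm_one_iff cm_eq')

universe u

variable {G : Type u} [Group G] {n : ℕ}

/-- `x ∈ Σ = ⋂ U_p` -/
def All (U : Fin n → Fin n → Subgroup G) (x : G) : Prop := ∀ i j, i ≠ j → x ∈ U i j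

theorem All.one {U : Fin n → Fin n → Subgroup G} : All U 1 := fun _ _ _ => one_mem _

theorem All.mul {U : Fin n → Fin n → Subgroup G} {x y : G} (hx : All U x) (hy : All U y) : All U (x * y) :=
  fun i j h => mul_mem (hx i j h) (hy i j h)

theorem All.inv {U : Fin n → Fin n → Subgroup G} {x : G} (hx : All U x) : All U x⁻¹ :=
  fun i j h => inv_mem (hx i j h)

/-- The frame. -/
structure FrS (ε : (Fin n → ZMod 2) → G) (U W Q : Fin n → Fin n → Subgroup G) (w : Fin n → Fin n → G) : Prop where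
  add : ∀ x y, ε (x + y) = ε x * ε y
  eU : ∀ {i j}, i ≠ j → ∀ x, (ε x ∈ U i j ↔ x i = x j)
  cU : ∀ {g : G} {σ : Equiv.Perm (Fin n)}, Acts ε g σ → ∀ {i j}, i ≠ j → ∀ x ∈ U i j, cj g x ∈ U (σ i) (σ j)
  cW : ∀ {g : G} {σ : Equiv.Perm (Fin n)}, Acts ε g σ → ∀ {i j}, i ≠ j → ∀ x ∈ W i j, cj g x ∈ W (σ i) (σ j)
  cQ : ∀ {g : G} {σ : Equiv.Perm (Fin n)}, Acts ε g σ → ∀ {i j}, i ≠ j → ∀ x ∈ Q i j, cj g x ∈ Q (σ i) (σ j)
  Usym : ∀ i j, U i j = U j i
  Wsym : ∀ i j, W i j = W j i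
  Qsym : ∀ i j, Q i j = Q j i
  UK : ∀ {i j}, i ≠ j → U i j ≤ KK ε
  QA : ∀ {i j}, i ≠ j → ∀ q ∈ Q i j, Acts ε q 1 ∨ Acts ε q (Equiv.swap i j)
  Uab : ∀ {i j}, i ≠ j → ∀ u ∈ U i j, ∀ v ∈ U i j, u * v = v * u
  Usq : ∀ {i j}, i ≠ j → ∀ u ∈ U i j, u * u = 1
  UQ : ∀ {i j}, i ≠ j → U i j ≤ Q i j
  UQc : ∀ {i j}, i ≠ j → ∀ q ∈ Q i j, ∀ u ∈ U i j, q * u = u * q
  WQ : ∀ {i j}, i ≠ j → W i j ≤ Q i j
  QW : ∀ {i j}, i ≠ j → ∀ q ∈ Q i j, ∀ x ∈ W i j, cm q x = 1 ∨ cm q x = rr ε i j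
  Wsq : ∀ {i j}, i ≠ j → ∀ x ∈ W i j, x * x = 1 ∨ x * x = rr ε i j
  wW : ∀ {i j}, i ≠ j → w i j ∈ W i j
  wA : ∀ {i j}, i ≠ j → Acts ε (w i j) (Equiv.swap i j)
  cw : ∀ {i j k l}, D4 i j k l → ∀ c, (∀ y ∈ U i j, c * y = y * c) → ∀ x ∈ W k l, cm c x ∈ Q i j
  core : ∀ {i j k l}, D4 i j k l → ∀ c ∈ W j k, (∀ y ∈ U i j, c * y = y * c) →
    (∀ y ∈ U k l, All U (cm c y)) → c ∈ Q i j
  eone : ε 1 = 1

namespace FrS

variable {ε : (Fin n → ZMod 2) → G} {U W Q : Fin n → Fin n → Subgroup G} {w : Fin n → Fin n → G}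
  (F : FrS ε U W Q w) {i j k l m : Fin n}

include F

/-! ### Labels -/

theorem ecomm (x y : Fin n → ZMod 2) : ε x * ε y = ε y * ε x := by rw [← F.add, ← F.add, add_comm]

theorem eK (x : Fin n → ZMod 2) : ε x ∈ KK ε := mem_KK'.2 fun y => F.ecomm x y

theorem zero : ε 0 = 1 := by
  have h := F.add 0 0
  rw [add_zero] at h
  exact left_eq_mul.1 h

theorem esq (x : Fin n → ZMod 2) : ε x * ε x = 1 := by rw [← F.add, add_self, F.zero]

theorem einv (x : Fin n → ZMod 2) : (ε x)⁻¹ = ε x := inv_eq_of_mul_eq_one_left (F.esq x)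

omit F in
theorem Ke {g : G} (hg : g ∈ KK ε) (x : Fin n → ZMod 2) : g * ε x = ε x * g := mem_KK'.1 hg x

theorem zK (i : Fin n) : zz ε i ∈ KK ε := F.eK _

theorem z_sq (i : Fin n) : zz ε i * zz ε i = 1 := F.esq _

theorem z_comm (i j : Fin n) : zz ε i * zz ε j = zz ε j * zz ε i := F.ecomm _ _

theorem z_inv (i : Fin n) : (zz ε i)⁻¹ = zz ε i := F.einv _

omit F in
theorem Kz {g : G} (hg : g ∈ KK ε) (i : Fin n) : g * zz ε i = zz ε i * g := Ke hg _

theorem rr_eq (i j : Fin n) : rr ε i j = ε (Pi.single i 1 + Pi.single j 1) := (F.add _ _).symm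

theorem rrK (i j : Fin n) : rr ε i j ∈ KK ε := by rw [F.rr_eq]; exact F.eK _

omit F in
theorem Kr {g : G} (hg : g ∈ KK ε) (i j : Fin n) : g * rr ε i j = rr ε i j * g := by
  unfold rr
  rw [← mul_assoc, Kz hg, mul_assoc, Kz hg, ← mul_assoc]

theorem r_sq (i j : Fin n) : rr ε i j * rr ε i j = 1 := by rw [F.rr_eq]; exact F.esq _

theorem r_inv (i j : Fin n) : (rr ε i j)⁻¹ = rr ε i j := by rw [F.rr_eq]; exact F.einv _

theorem r_symm (i j : Fin n) : rr ε i j = rr ε j i := F.z_comm i j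

theorem zU (hij : i ≠ j) (hki : k ≠ i) (hkj : k ≠ j) : zz ε k ∈ U i j := by
  refine (F.eU hij _).2 ?_
  rw [Pi.single_eq_of_ne hki.symm, Pi.single_eq_of_ne hkj.symm]

theorem zU' (hij : i ≠ j) : zz ε i ∉ U i j := by
  intro h
  have h1 := (F.eU hij _).1 h
  rw [Pi.single_eq_same, Pi.single_eq_of_ne hij.symm] at h1
  exact one_ne_zero h1

theorem zU'' (hij : i ≠ j) : zz ε j ∉ U i j := by
  rw [F.Usym]
  exact F.zU' hij.symm

theorem rU (hij : i ≠ j) : rr ε i j ∈ U i j := by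
  rw [F.rr_eq, F.eU hij, Pi.add_apply, Pi.add_apply, Pi.single_eq_same, Pi.single_eq_same,
    Pi.single_eq_of_ne hij, Pi.single_eq_of_ne hij.symm, add_zero, zero_add]

/-- `r_ik` is not in `U i j` -/
theorem r_nmem (hij : i ≠ j) (hki : k ≠ i) (hkj : k ≠ j) : rr ε i k ∉ U i j := by
  intro h
  have h1 := mul_mem h (F.zU hij hki hkj)
  have h2 : rr ε i k * zz ε k = zz ε i := by
    unfold rr
    rw [mul_assoc, F.z_sq, mul_one]
  rw [h2] at h1
  exact F.zU' hij h1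

theorem rr_mem_disj (hij : i ≠ j) (hki : k ≠ i) (hkj : k ≠ j) (hli : l ≠ i) (hlj : l ≠ j) : rr ε k l ∈ U i j :=
  mul_mem (F.zU hij hki hkj) (F.zU hij hli hlj)

/-! ### Conjugation -/

theorem KU (hij : i ≠ j) {g : G} (hg : g ∈ KK ε) {u : G} (hu : u ∈ U i j) : cj g u ∈ U i j := F.cU hg hij u hu

theorem KW (hij : i ≠ j) {g : G} (hg : g ∈ KK ε) {u : G} (hu : u ∈ W i j) : cj g u ∈ W i j := F.cW hg hij u hu

theorem KQ (hij : i ≠ j) {g : G} (hg : g ∈ KK ε) {u : G} (hu : u ∈ Q i j) : cj g u ∈ Q i j := F.cQ hg hij u hu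

/-- conjugation by an element acting as `(i j)` -/
theorem sw1 {g : G} (hg : Acts ε g (Equiv.swap i j)) (hki : k ≠ i) (hkj : k ≠ j) {u : G}
    (hu : u ∈ U i k) : cj g u ∈ U j k := by
  have h := F.cU hg hki.symm u hu
  rwa [Equiv.swap_apply_left, Equiv.swap_apply_of_ne_of_ne hki hkj] at h

theorem sw2 {g : G} (hg : Acts ε g (Equiv.swap i j)) (hki : k ≠ i) (hkj : k ≠ j) {u : G}
    (hu : u ∈ U j k) : cj g u ∈ U i k := by
  have h := F.cU hg hkj.symm u hu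
  rwa [Equiv.swap_apply_right, Equiv.swap_apply_of_ne_of_ne hki hkj] at h

theorem sw3 {g : G} (hg : Acts ε g (Equiv.swap i j)) (hki : k ≠ i) (hkj : k ≠ j) (hli : l ≠ i)
    (hlj : l ≠ j) (hkl : k ≠ l) {u : G} (hu : u ∈ U k l) : cj g u ∈ U k l := by
  have h := F.cU hg hkl u hu
  rwa [Equiv.swap_apply_of_ne_of_ne hki hkj, Equiv.swap_apply_of_ne_of_ne hli hlj] at h

theorem w1 (hij : i ≠ j) (hki : k ≠ i) (hkj : k ≠ j) {u : G} (hu : u ∈ U i k) : cj (w i j) u ∈ U j k :=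
  F.sw1 (F.wA hij) hki hkj hu

theorem w2 (hij : i ≠ j) (hki : k ≠ i) (hkj : k ≠ j) {u : G} (hu : u ∈ U j k) : cj (w i j) u ∈ U i k :=
  F.sw2 (F.wA hij) hki hkj hu

theorem w3 (hij : i ≠ j) (hki : k ≠ i) (hkj : k ≠ j) (hli : l ≠ i) (hlj : l ≠ j) (hkl : k ≠ l) {u : G}
    (hu : u ∈ U k l) : cj (w i j) u ∈ U k l := F.sw3 (F.wA hij) hki hkj hli hlj hkl hu

theorem W1 (hij : i ≠ j) (hki : k ≠ i) (hkj : k ≠ j) {u : G} (hu : u ∈ W i k) : cj (w i j) u ∈ W j k := by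
  have h := F.cW (F.wA hij) hki.symm u hu
  rwa [Equiv.swap_apply_left, Equiv.swap_apply_of_ne_of_ne hki hkj] at h

theorem W2 (hij : i ≠ j) (hki : k ≠ i) (hkj : k ≠ j) {u : G} (hu : u ∈ W j k) : cj (w i j) u ∈ W i k := by
  have h := F.cW (F.wA hij) hkj.symm u hu
  rwa [Equiv.swap_apply_right, Equiv.swap_apply_of_ne_of_ne hki hkj] at h

theorem W3 (hij : i ≠ j) (hki : k ≠ i) (hkj : k ≠ j) (hli : l ≠ i) (hlj : l ≠ j) (hkl : k ≠ l) {u : G}
    (hu : u ∈ W k l) : cj (w i j) u ∈ W k l := by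
  have h := F.cW (F.wA hij) hkl u hu
  rwa [Equiv.swap_apply_of_ne_of_ne hki hkj, Equiv.swap_apply_of_ne_of_ne hli hlj] at h

omit F in
/-- conjugates of elements of `C_G(V)` -/
theorem KK_conj {g : G} {σ : Equiv.Perm (Fin n)} (hg : Acts ε g σ) {x : G} (hx : x ∈ KK ε) : cj g x ∈ KK ε := by
  have h := hg.conj (mem_KK.1 hx)
  rw [mul_one, mul_inv_cancel] at h
  exact h

/-- an element of `Q i j` acting as `(i j)` is an involution on `C_G(V)` -/
theorem w_sq_comm (hij : i ≠ j) {g : G} (hg : g ∈ KK ε) : w i j * w i j * g = g * (w i j * w i j) := by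
  rcases F.Wsq hij _ (F.wW hij) with h | h
  · rw [h, one_mul, mul_one]
  · rw [h, Kr hg]

/-- `w` acts on `K` as an involution -/
theorem cj_w_w (hij : i ≠ j) {g : G} (hg : g ∈ KK ε) : cj (w i j) (cj (w i j) g) = g := by
  rw [cj_cj]
  exact cj_eq_of_comm (F.w_sq_comm hij hg)

/-- preimage under `w` -/
theorem cj_w_eq (hij : i ≠ j) {g h : G} (hg : g ∈ KK ε) (e : h = cj (w i j) g) : g = cj (w i j) h := by
  rw [e, F.cj_w_w hij hg]

/-- `w i j` centralises `U i j` -/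
theorem cj_w_self (hij : i ≠ j) {u : G} (hu : u ∈ U i j) : cj (w i j) u = u :=
  cj_eq_of_comm (F.UQc hij _ (F.WQ hij (F.wW hij)) u hu)

/-! ### (1) Intersections: the sigma calculus -/

/-- (1.1) -/
theorem tri (hij : i ≠ j) (hki : k ≠ i) (hkj : k ≠ j) {y : G} (h1 : y ∈ U i j) (h2 : y ∈ U i k) :
    y ∈ U j k := by
  have h3 := F.w1 hij hki hkj h2
  rwa [F.cj_w_self hij h1] at h3

theorem tri' (hij : i ≠ j) (hki : k ≠ i) (hkj : k ≠ j) {y : G} (h1 : y ∈ U i k) (h2 : y ∈ U j k) :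
    y ∈ U i j := by
  rw [F.Usym] at h1 h2
  exact F.tri hki hkj.symm hij.symm h1 h2

theorem lab_symm {x : G} (h : Lab U x i j) : Lab U x j i := by
  rcases h with h | h
  · exact Or.inl h.symm
  · exact Or.inr (F.Usym i j ▸ h)

theorem lab_trans {x : G} (h1 : Lab U x i j) (h2 : Lab U x j k) : Lab U x i k := by
  rcases eq_or_ne i j with rfl | hij
  · exact h2
  rcases eq_or_ne j k with rfl | hjk
  · exact h1
  rcases eq_or_ne i k with rfl | hik
  · exact Or.inl rfl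
  have e1 := h1.resolve_left hij
  have e2 := h2.resolve_left hjk
  right
  rw [F.Usym] at e1
  exact F.tri hij.symm hjk.symm hik.symm e1 e2

omit F in
theorem lab_refl (x : G) (i : Fin n) : Lab U x i i := Or.inl rfl

omit F in
theorem lab_ne {x : G} (hij : i ≠ j) : Lab U x i j ↔ x ∈ U i j := or_iff_right hij

omit F in
theorem lab_mul {x y : G} (h1 : Lab U x i j) (h2 : Lab U y i j) : Lab U (x * y) i j := by
  rcases eq_or_ne i j with rfl | hij
  · exact Or.inl rfl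
  · exact Or.inr (mul_mem (h1.resolve_left hij) (h2.resolve_left hij))

omit F in
theorem lab_inv {x : G} (h1 : Lab U x i j) : Lab U x⁻¹ i j := h1.imp_right fun h => inv_mem h

theorem lab_e (x : Fin n → ZMod 2) : Lab U (ε x) i j ↔ x i = x j := by
  rcases eq_or_ne i j with rfl | hij
  · exact ⟨fun _ => rfl, fun _ => Or.inl rfl⟩
  · rw [lab_ne hij, F.eU hij]

/-- all `U`'s from a star -/
theorem star {y : G} (h : ∀ a, Lab U y i a) : All U y :=
  fun a b hab => (F.lab_trans (F.lab_symm (h a)) (h b)).resolve_left hab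

/-- `[s, y] ∈ U i j` for `s ∈ U i j`, `y ∈ C_G(V)` -/
theorem cm_left (hij : i ≠ j) {v y : G} (hv : v ∈ U i j) (hy : y ∈ KK ε) : cm v y ∈ U i j := by
  rw [cm_eq]
  have e : cj v y * y⁻¹ = v * (cj y v)⁻¹ := by unfold cj; group
  rw [e]
  exact mul_mem hv (inv_mem (F.KU hij hy hv))

theorem cm_right (hij : i ≠ j) {v y : G} (hv : v ∈ KK ε) (hy : y ∈ U i j) : cm v y ∈ U i j := by
  rw [cm_eq]
  exact mul_mem (F.KU hij hv hy) (inv_mem hy)

theorem lab_cm_left {v y : G} (hv : Lab U v i j) (hy : y ∈ KK ε) : Lab U (cm v y) i j := by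
  rcases eq_or_ne i j with rfl | hij
  · exact Or.inl rfl
  · exact Or.inr (F.cm_left hij (hv.resolve_left hij) hy)

theorem lab_cm_right {v y : G} (hv : v ∈ KK ε) (hy : Lab U y i j) : Lab U (cm v y) i j := by
  rcases eq_or_ne i j with rfl | hij
  · exact Or.inl rfl
  · exact Or.inr (F.cm_right hij hv (hy.resolve_left hij))

theorem lab_cj {g : G} {σ : Equiv.Perm (Fin n)} (hg : Acts ε g σ) {x : G} (h : Lab U x i j) :
    Lab U (cj g x) (σ i) (σ j) := by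
  rcases eq_or_ne i j with rfl | hij
  · exact Or.inl rfl
  · exact Or.inr (F.cU hg hij x (h.resolve_left hij))

theorem cmK {x y : G} (hx : x ∈ KK ε) (hy : y ∈ KK ε) : cm x y ∈ KK ε :=
  mul_mem (mul_mem (mul_mem hx hy) (inv_mem hx)) (inv_mem hy)

/-! ### (2) -/

/-- `u w u⁻¹ w⁻¹ ∈ W` -/
theorem uw (hij : i ≠ j) {x : G} (hx : x ∈ W i j) {u : G} (hu : u ∈ KK ε) : cm u x ∈ W i j := by
  rw [cm_eq]
  exact mul_mem (F.KW hij hu hx) (inv_mem hx)

theorem inv_self (hij : i ≠ j) {u : G} (hu : u ∈ U i j) : u⁻¹ = u :=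
  inv_eq_of_mul_eq_one_left (F.Usq hij u hu)

/-- `u · u^w ∈ W` -/
theorem uuw {a b : Fin n} (hij : i ≠ j) (hab : a ≠ b) {u : G} (hu : u ∈ U a b) :
    u * cj (w i j) u ∈ W i j := by
  have h := F.uw hij (F.wW hij) (F.UK hab hu)
  have e : cm u (w i j) = u * cj (w i j) u := by
    rw [cm_eq', F.inv_self hab hu]
  rwa [e] at h

/-- membership in `⟨z_j⟩ Σ_ijk`, inside `U i k` (triangle `i j k`) -/
def PP (ε : (Fin n → ZMod 2) → G) (U : Fin n → Fin n → Subgroup G) (i k j : Fin n) (y : G) : Prop :=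
  y ∈ U i k ∧ (y ∈ U i j ∨ y * zz ε j ∈ U i j)

/-- the key dichotomy: `y = e z`, `y ∈ U i k`, `z ∈ U j k`, `e ∈ {1, r_ij}` -/
theorem pp_of (hij : i ≠ j) (hki : k ≠ i) (hkj : k ≠ j) {y z e : G} (hy : y ∈ U i k)
    (hz : z ∈ U j k) (he : e = 1 ∨ e = rr ε i j) (h : y = e * z) : PP ε U i k j y := by
  refine ⟨hy, ?_⟩
  rcases he with rfl | rfl
  · left
    rw [one_mul] at h
    exact F.tri' hij hki hkj hy (h ▸ hz)
  · right
    have h1 : y * zz ε j = zz ε i * z := by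
      rw [h, mul_assoc, Kz (F.UK hkj.symm hz), ← mul_assoc]
      unfold rr
      rw [mul_assoc (zz ε i), F.z_sq, mul_one]
    refine F.tri' hij hki hkj (mul_mem hy (F.zU hki.symm hij.symm hkj.symm)) ?_
    rw [h1]
    exact mul_mem (F.zU hkj.symm hij hki.symm) hz

/-- (1.3): `[U_ik, Q_ij ∩ C(V)] ≤ ⟨z_j⟩ Σ_ijk` -/
theorem uq (hij : i ≠ j) (hki : k ≠ i) (hkj : k ≠ j) {u q : G} (hu : u ∈ U i k) (hq : q ∈ Q i j)
    (hqK : q ∈ KK ε) : PP ε U i k j (u⁻¹ * cj q u) := by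
  set u' := cj (w i j) u with hu'
  have h1 : u' ∈ U j k := F.w1 hij hki hkj hu
  have h2 : u * u' ∈ W i j := F.uuw hij hki.symm hu
  have h3 := F.QW hij q hq _ h2
  have h4 : cj q u ∈ U i k := F.KU hki.symm hqK hu
  have h5 : cj q u' ∈ U j k := F.KU hkj.symm hqK h1
  have h6 : u⁻¹ * cj q u = cm q (u * u') * (u' * (cj q u')⁻¹) := by
    have e1 : cj q u * cj q u' = cm q (u * u') * (u * u') := by rw [← cj_mul, cj_eq_cm]
    have e2 : cm q (u * u') * u = u * cm q (u * u') := by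
      rcases h3 with h | h
      · rw [h, one_mul, mul_one]
      · rw [h, Kr (F.UK hki.symm hu)]
    have e3 : u⁻¹ * cj q u = u⁻¹ * (cj q u * cj q u') * (cj q u')⁻¹ := by group
    rw [e3, e1, ← mul_assoc (cm q (u * u')), e2]
    group
  exact F.pp_of hij hki hkj (mul_mem (inv_mem hu) h4) (mul_mem h1 (inv_mem h5)) h3 h6

/-- (1.4) -/
theorem alt (hij : i ≠ j) (hki : k ≠ i) (hkj : k ≠ j) {y : G} (hy : y ∈ U i j) :
    y * cj (w j k) y = cj (w j k) y * y := by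
  have h1 : cj (w j k) y ∈ U i k := by
    rw [F.Usym]
    exact F.w1 hkj.symm hij hki.symm (F.Usym i j ▸ hy)
  have h2 := F.Wsq hkj.symm _ (F.uuw hkj.symm hij hy)
  set y' := cj (w j k) y
  have e1 : y * y' * (y * y') = cm y y' := by
    unfold cm
    rw [F.inv_self hij hy, F.inv_self hki.symm h1]
    group
  have h3 : cm y y' ∈ U i j := by
    rw [cm_eq']
    exact mul_mem hy (F.KU hij (F.UK hki.symm h1) (inv_mem hy))
  rw [e1] at h2
  rcases h2 with h | h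
  · exact cm_one_iff.1 h
  · rw [h, F.Usym] at h3
    exact absurd h3 (F.r_nmem hij.symm hkj hki)

/-- (1.6) -/
theorem ppQ (hij : i ≠ j) (hki : k ≠ i) (hkj : k ≠ j) {y : G} (hy : y ∈ U i k) (hq : y ∈ Q i j) :
    PP ε U i k j y := by
  have h1 : cj (w i j) y ∈ U j k := F.w1 hij hki hkj hy
  have h2 := F.QW hij y hq _ (F.wW hij)
  have e1 : cm y (w i j) = y * cj (w i j) y := by rw [cm_eq', F.inv_self hki.symm hy]
  refine F.pp_of hij hki hkj hy h1 h2 ?_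
  rw [e1, mul_assoc, F.Usq hkj.symm _ h1, mul_one]

/-- `c` centralises `U i j` -/
abbrev Cen (U : Fin n → Fin n → Subgroup G) (c : G) (i j : Fin n) : Prop :=
  ∀ y ∈ U i j, c * y = y * c

theorem cen_symm {c : G} (h : Cen U c i j) : Cen U c j i := by
  intro y hy
  exact h y (F.Usym i j ▸ hy)

/-- `C_{U_ik}(U_ij) = C_{U_ik}(U_jk)` -/
theorem cen_tri (hij : i ≠ j) (hki : k ≠ i) (hkj : k ≠ j) {u : G} (hu : u ∈ U i k)
    (hc : Cen U u i j) : Cen U u j k := by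
  intro y hy
  have h1 : cj (w i k) y ∈ U i j := F.w2 hki.symm hij.symm hkj.symm (F.Usym j k ▸ hy)
  have h2 := hc _ h1
  have h3 := congrArg (cj (w i k)) h2
  rw [cj_mul, cj_mul, F.cj_w_w hki.symm (F.UK hkj.symm hy), F.cj_w_self hki.symm hu] at h3
  exact h3

/-- conjugates of centralising elements -/
theorem cen_cj {a b : Fin n} (hij : i ≠ j) {c : G} (hc : Cen U c a b)
    {a' b' : Fin n} (hmap : ∀ y ∈ U a' b', cj (w i j) y ∈ U a b) (hab' : a' ≠ b') :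
    Cen U (cj (w i j) c) a' b' := by
  intro y hy
  have h1 := hc _ (hmap y hy)
  have h2 := congrArg (cj (w i j)) h1
  rw [cj_mul, cj_mul, F.cj_w_w hij (F.UK hab' hy)] at h2
  exact h2

end FrS

/-- every `Fr` is an `FrS` -/
theorem of_fr {ε : (Fin n → ZMod 2) → G} {U W Q : Fin n → Fin n → Subgroup G} {w : Fin n → Fin n → G}
    (F : Fr ε U W Q w) : FrS ε U W Q w where
  add := F.add
  eU := F.eU
  cU := F.cU
  cW := F.cW
  cQ := F.cQ
  Usym := F.Usym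
  Wsym := F.Wsym
  Qsym := F.Qsym
  UK := F.UK
  QA := F.QA
  Uab := F.Uab
  Usq := F.Usq
  UQ := F.UQ
  UQc := F.UQc
  WQ := F.WQ
  QW := F.QW
  Wsq := F.Wsq
  wW := F.wW
  wA := F.wA
  cw := F.cw
  core := fun hD c hc h1 h2 => F.core hD c hc h1 fun y hy => cm_one_iff.1 (F.inter _ (h2 y hy))
  eone := F.eone

end Cfsg.Agent.Omega.NSix.EngineS

end

section


/-!
# THEOREM C of #15755 without `⋂ U_p = 1` (#18783, helper726) on the frame `FrS`

* `FrS.two1`, `FrS.two2` : `[u ^ w_ij, y] [u, y]⁻¹ ∈ Σ`;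
* `FrS.thmC`, `FrS.thmC'` : `u ∈ U i k` centralising `U i j` lies in `Q i j`, and in `⟨z_j⟩ Σ_ijk`;
* `FrS.thC` : `ThC`.
(The text is that of `Engine/ThmC.lean`, helper821.)
-/

set_option autoImplicit false
set_option linter.unusedSectionVars false

namespace Cfsg.Agent.Omega.NSix.EngineS

open Subgroup Cfsg.Agent.Omega.S5.Def Cfsg.Agent.Omega.NSix.Base
open Cfsg.Agent.Omega.NSix.Engine (D4 D5 KK mem_KK mem_KK' Lab Fr)
open Cfsg.Agent.Omega.TTn.Di (cm cj cj_mul cj_inv cj_cj cj_one cj_eq_of_comm comm_of_cj cj_eq_cm cm_eq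
  cm_one_iff cm_eq')

universe u

variable {G : Type u} [Group G] {n : ℕ}

namespace FrS

variable {ε : (Fin n → ZMod 2) → G} {U W Q : Fin n → Fin n → Subgroup G} {w : Fin n → Fin n → G}
  (F : FrS ε U W Q w) {i j k l m : Fin n}

include F

omit F in
/-- `y ∈ Σ_ijkl` -/
def Sg (U : Fin n → Fin n → Subgroup G) (i j k l : Fin n) (y : G) : Prop :=
  y ∈ U i j ∧ y ∈ U i k ∧ y ∈ U i l

theorem sg_a (h : D4 i j k l) {y : G} (hy : Sg U i j k l y) : Sg U j i k l y :=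
  ⟨F.Usym i j ▸ hy.1, F.tri h.ij h.ik.symm h.jk.symm hy.1 hy.2.1,
    F.tri h.ij h.il.symm h.jl.symm hy.1 hy.2.2⟩

omit F in
theorem sg_b {y : G} (hy : Sg U i j k l y) : Sg U i k j l y := ⟨hy.2.1, hy.1, hy.2.2⟩

omit F in
theorem sg_c {y : G} (hy : Sg U i j k l y) : Sg U i j l k y := ⟨hy.1, hy.2.2, hy.2.1⟩

theorem sg_jk (h : D4 i j k l) {y : G} (hy : Sg U i j k l y) : y ∈ U j k := (F.sg_a h hy).2.1

theorem sg_jl (h : D4 i j k l) {y : G} (hy : Sg U i j k l y) : y ∈ U j l := (F.sg_a h hy).2.2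

theorem sg_kl (h : D4 i j k l) {y : G} (hy : Sg U i j k l y) : y ∈ U k l :=
  F.tri h.ik h.il.symm h.kl.symm hy.2.1 hy.2.2

/-- (2.1), first form: `v ∈ U i l` centralising `U i j`, `y ∈ U i k` -/
theorem two1a (h : D4 i j k l) {v y : G} (hv : v ∈ U i l) (hc : Cen U v i j) (hy : y ∈ U i k) :
    Sg U i j k l (cm v y) ∧ Sg U i j k l (cm v (cj (w i j) y)) := by
  set u := cj (w k l) v with hu
  have hvK := F.UK h.il hv
  have hyK := F.UK h.ik hy
  have hu1 : u ∈ U i k := by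
    rw [F.Usym]
    exact F.w2 h.kl h.ik h.il (F.Usym i l ▸ hv)
  have huv : cj (w k l) u = v := F.cj_w_w h.kl hvK
  have hcu : Cen U u i j :=
    F.cen_cj h.kl hc (fun y hy => F.w3 h.kl h.ik h.il h.jk h.jl h.ij hy) h.ij
  have hcu2 : Cen U u j k := F.cen_tri h.ij h.ik.symm h.jk.symm hu1 hcu
  -- `u v ∈ Q i j`
  have hq : u * v ∈ Q i j := by
    have h1 := F.cw h u hcu _ (F.wW h.kl)
    have e1 : cm u (w k l) = u * v := by
      rw [cm_eq', F.inv_self h.ik hu1, huv]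
    rwa [e1] at h1
  set y' := cj (w i j) y with hy'
  have hy1 : y' ∈ U j k := F.w1 h.ij h.ik.symm h.jk.symm hy
  have hy1K := F.UK h.jk hy1
  have h2 : y * y' ∈ W i j := F.uuw h.ij h.ik hy
  have h3 := F.QW h.ij _ hq _ h2
  set e := cm (u * v) (y * y') with he
  have hb : cj v y ∈ U i k := F.KU h.ik hvK hy
  have hb' : cj v y' ∈ U j k := F.KU h.jk hvK hy1
  have e1 : cj (u * v) (y * y') = cj v y * cj v y' := by
    rw [← cj_cj, cj_mul, cj_mul, cj_eq_of_comm (F.Uab h.ik u hu1 _ hb), cj_eq_of_comm (hcu2 _ hb')]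
  have e2 : cj v y * cj v y' = e * (y * y') := by rw [← e1, cj_eq_cm]
  have ecomm : ∀ g ∈ KK ε, e * g = g * e := by
    intro g hg
    rcases h3 with h3 | h3
    · rw [h3, one_mul, mul_one]
    · rw [h3, Kr hg]
  -- `y⁻¹ b = e y' b'⁻¹`
  have e3 : y⁻¹ * cj v y = e * (y' * (cj v y')⁻¹) := by
    have e4 : y⁻¹ * cj v y = y⁻¹ * (cj v y * cj v y') * (cj v y')⁻¹ := by group
    rw [e4, e2, ← mul_assoc e, ecomm y hyK]
    group
  have m1 : y⁻¹ * cj v y ∈ U i l := by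
    have e4 : y⁻¹ * cj v y = cj y⁻¹ v * v⁻¹ := by unfold cj; group
    rw [e4]
    exact mul_mem (F.KU h.il (inv_mem hyK) hv) (inv_mem hv)
  have m2 : y' * (cj v y')⁻¹ ∈ U i l := by
    have e4 : y' * (cj v y')⁻¹ = cj y' v * v⁻¹ := by unfold cj; group
    rw [e4]
    exact mul_mem (F.KU h.il hy1K hv) (inv_mem hv)
  have he1 : e = 1 := by
    rcases h3 with h3 | h3
    · exact h3
    · exfalso
      have h4 : e ∈ U i l := by
        have e4 : e = (y⁻¹ * cj v y) * (y' * (cj v y')⁻¹)⁻¹ := by rw [e3]; group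
        rw [e4]; exact mul_mem m1 (inv_mem m2)
      rw [h3] at h4
      exact F.r_nmem h.il h.ij.symm h.jl h4
  rw [he1, one_mul] at e3
  have m3 : y⁻¹ * cj v y ∈ U i k := mul_mem (inv_mem hy) hb
  have m4 : y⁻¹ * cj v y ∈ U j k := by rw [e3]; exact mul_mem hy1 (inv_mem hb')
  have m5 : y⁻¹ * cj v y ∈ U i j := F.tri' h.ij h.ik.symm h.jk.symm m3 m4
  have f1 : cm v y = y⁻¹ * cj v y := by
    rw [cm_eq]
    exact F.Uab h.ik _ hb _ (inv_mem hy)
  have f2 : cm v y' = (y⁻¹ * cj v y)⁻¹ := by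
    rw [e3, mul_inv_rev, inv_inv, cm_eq]
  refine ⟨?_, ?_⟩
  · rw [f1]; exact ⟨m5, m3, m1⟩
  · rw [f2]; exact ⟨inv_mem m5, inv_mem m3, inv_mem m1⟩

/-- (2.1): triangle `i j k`, `v ∈ U i k` centralising `U i j`; `y ∈ U p l`, `p ∈ {i,j,k}` -/
theorem two1 (h : D4 i j k l) {v y : G} (hv : v ∈ U i k) (hc : Cen U v i j)
    (hy : y ∈ U i l ∨ y ∈ U j l ∨ y ∈ U k l) : Sg U i j k l (cm v y) := by
  have hh := h.c
  rcases hy with hy | hy | hy
  · exact sg_c (F.two1a hh hv hc hy).1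
  · have h1 : cj (w i j) y ∈ U i l := F.w2 h.ij h.il.symm h.jl.symm hy
    have h2 := (F.two1a hh hv hc h1).2
    rw [F.cj_w_w h.ij (F.UK h.jl hy)] at h2
    exact sg_c h2
  · have h1 : cj (w i k) y ∈ U i l := F.w2 h.ik h.il.symm h.kl.symm hy
    have h2 := (F.two1a hh hv hc h1).1
    -- conjugate back
    have e1 : cm v y = cj (w i k) (cm v (cj (w i k) y)) := by
      have e2 : ∀ a b c : G, cj a (cm b c) = cm (cj a b) (cj a c) := by
        intro a b c; unfold cj cm; group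
      rw [e2, F.cj_w_w h.ik (F.UK h.kl hy), F.cj_w_self h.ik hv]
    rw [e1]
    obtain ⟨a1, a2, a3⟩ := h2
    -- a1 : U i j, a2 : U i l, a3 : U i k
    have b3 : cj (w i k) (cm v (cj (w i k) y)) ∈ U i k := by
      rw [F.cj_w_self h.ik a3]
      exact a3
    have b1 : cj (w i k) (cm v (cj (w i k) y)) ∈ U k j := F.w1 h.ik h.ij.symm h.jk a1
    have b2 : cj (w i k) (cm v (cj (w i k) y)) ∈ U k l := F.w1 h.ik h.il.symm h.kl.symm a2
    exact ⟨F.tri h.ik.symm h.jk h.ij.symm (F.Usym i k ▸ b3) b1, b3,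
      F.tri h.ik.symm h.kl.symm h.il.symm (F.Usym i k ▸ b3) b2⟩

/-- (2.2), one letter: `[u ^ w_ij, y] [u, y]⁻¹ = [u_jl, y]⁻¹ [u_il, y]` -/
theorem two2a (h : D5 i j k l m) {u y : G} (hu : u ∈ U i k) (hc : Cen U u i j) (hy : y ∈ U i m) :
    cm (cj (w i j) u) y * (cm u y)⁻¹ ∈ U i l := by
  have huK := F.UK h.ik hu
  have hyK := F.UK h.im hy
  set u2 := cj (w i j) u with hu2
  have hu2m : u2 ∈ U j k := F.w1 h.ij h.ik.symm h.jk.symm hu
  have hu2K := F.UK h.jk hu2m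
  have hc2 : Cen U u2 i j := by
    refine F.cen_cj h.ij hc (fun z hz => ?_) h.ij
    rw [F.cj_w_self h.ij hz]
    exact hz
  set u4 := cj (w k l) u with hu4
  have hu4m : u4 ∈ U i l := by
    rw [F.Usym]
    exact F.w1 h.kl h.ik h.il (F.Usym i k ▸ hu)
  have hu4K := F.UK h.il hu4m
  have hc4 : Cen U u4 i j :=
    F.cen_cj h.kl hc (fun y hy => F.w3 h.kl h.ik h.il h.jk h.jl h.ij hy) h.ij
  set u24 := cj (w i j) u4 with hu24
  have hu24m : u24 ∈ U j l := F.w1 h.ij h.il.symm h.jl.symm hu4m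
  have hu24K := F.UK h.jl hu24m
  have hc24 : Cen U u24 i j := by
    refine F.cen_cj h.ij hc4 (fun z hz => ?_) h.ij
    rw [F.cj_w_self h.ij hz]
    exact hz
  -- `u u4 ∈ Q i j`
  have hq : u * u4 ∈ Q i j := by
    have h1 := F.cw h.toD4 u hc _ (F.wW h.kl)
    have e1 : cm u (w k l) = u * u4 := by rw [cm_eq', F.inv_self h.ik hu]
    rwa [e1] at h1
  have h3 := F.QW h.ij _ hq _ (F.wW h.ij)
  set e := cm (u * u4) (w i j) with he
  have hee : ∀ g ∈ KK ε, e * g = g * e := by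
    intro g hg
    rcases h3 with h3 | h3
    · rw [h3, one_mul, mul_one]
    · rw [h3, Kr hg]
  -- `u u4 = e · (u2 u24)`
  have e1 : u * u4 = e * (u2 * u24) := by
    have e2 : u2 * u24 = cj (w i j) (u * u4) := by rw [hu2, hu24, cj_mul]
    have e3 : cj (u * u4) (w i j) = e * w i j := by rw [cj_eq_cm]
    have e4 : u * u4 * w i j = e * w i j * (u * u4) := by
      rw [← e3]; unfold cj; group
    have e5 : u * u4 = e * (w i j * (u * u4) * (w i j)⁻¹) := by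
      calc u * u4 = u * u4 * w i j * (w i j)⁻¹ := by group
        _ = e * w i j * (u * u4) * (w i j)⁻¹ := by rw [e4]
        _ = _ := by group
    rw [e2]
    exact e5
  have e2 : cj (u * u4) y = cj (u2 * u24) y := by
    rw [e1, ← cj_cj]
    exact cj_eq_of_comm (hee _ (mul_mem (mul_mem (mul_mem hu2K hu24K) hyK)
      (inv_mem (mul_mem hu2K hu24K))))
  have S4 : Sg U i j k m (cm u y) := F.two1 h.d.toD4 hu hc (Or.inl hy)
  have S4' : Sg U j i k m (cm u2 y) :=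
    F.two1 (h.a.d).toD4 hu2m (F.cen_symm hc2) (Or.inr (Or.inl hy))
  have S3 : Sg U i j l m (cm u4 y) := F.two1 h.c.d.toD4 hu4m hc4 (Or.inl hy)
  have S3' : Sg U j i l m (cm u24 y) :=
    F.two1 (h.a.c.d).toD4 hu24m (F.cen_symm hc24) (Or.inr (Or.inl hy))
  have S4'' : Sg U i j k m (cm u2 y) := F.sg_a (h.a.d).toD4 S4'
  have S3'' : Sg U i j l m (cm u24 y) := F.sg_a (h.a.c.d).toD4 S3'
  have f1 : cj (u * u4) y = cm u4 y * (cm u y * y) := by
    rw [← cj_cj, cj_eq_cm u4 y, cj_mul, cj_eq_cm u y, cj_eq_of_comm (hc _ S3.1)]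
  have f2 : cj (u2 * u24) y = cm u24 y * (cm u2 y * y) := by
    rw [← cj_cj, cj_eq_cm u24 y, cj_mul, cj_eq_cm u2 y, cj_eq_of_comm (hc2 _ S3''.1)]
  rw [f1, f2, ← mul_assoc, ← mul_assoc] at e2
  have e3 := mul_right_cancel e2
  have e4 : (cm u24 y)⁻¹ * cm u4 y = cm u2 y * (cm u y)⁻¹ := by
    rw [inv_mul_eq_iff_eq_mul, ← mul_assoc, ← e3, mul_assoc, mul_inv_cancel, mul_one]
  rw [← e4]
  exact mul_mem (inv_mem S3''.2.1) S3.2.1

/-- **(2.2)** `[u ^ w_ij, y] [u, y]⁻¹ ∈ Σ` -/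
theorem two2 (h : D4 i j k m) {u y : G} (hu : u ∈ U i k) (hc : Cen U u i j) (hy : y ∈ U i m) :
    All U (cm (cj (w i j) u) y * (cm u y)⁻¹) := by
  have hu2m : cj (w i j) u ∈ U j k := F.w1 h.ij h.ik.symm h.jk.symm hu
  have hc2 : Cen U (cj (w i j) u) i j := by
    refine F.cen_cj h.ij hc (fun z hz => ?_) h.ij
    rw [F.cj_w_self h.ij hz]
    exact hz
  have S1 : Sg U i j k m (cm u y) := F.two1 h hu hc (Or.inl hy)
  have S2 : Sg U i j k m (cm (cj (w i j) u) y) :=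
    F.sg_a h.a (F.two1 h.a hu2m (F.cen_symm hc2) (Or.inr (Or.inl hy)))
  refine F.star (i := i) fun a => ?_
  by_cases hai : a = i
  · rw [hai]; exact lab_refl _ _
  refine Or.inr ?_
  by_cases haj : a = j
  · rw [haj]; exact mul_mem S2.1 (inv_mem S1.1)
  by_cases hak : a = k
  · rw [hak]; exact mul_mem S2.2.1 (inv_mem S1.2.1)
  by_cases ham : a = m
  · rw [ham]; exact mul_mem S2.2.2 (inv_mem S1.2.2)
  exact F.two2a (l := a) ⟨⟨h.ij, h.ik, Ne.symm hai, h.jk, Ne.symm haj, Ne.symm hak⟩, h.il, h.jl, h.kl, ham⟩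
    hu hc hy

/-- **THEOREM C** -/
theorem thmC (h : D4 i j k l) {u : G} (hu : u ∈ U i k) (hc : Cen U u i j) : u ∈ Q i j := by
  have hu' : u ∈ U k i := F.Usym i k ▸ hu
  set u'' := cj (w k j) u with hu''
  have hum : u'' ∈ U i j := by
    rw [F.Usym]
    exact F.w1 h.jk.symm h.ik h.ij hu'
  have hc' : Cen U u k j := F.cen_symm (F.cen_tri h.ij h.ik.symm h.jk.symm hu hc)
  have hcW : u * u'' ∈ W j k := by
    rw [F.Wsym]
    exact F.uuw h.jk.symm h.ik hu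
  have c1 : ∀ y ∈ U i j, u * u'' * y = y * (u * u'') := by
    intro y hy
    rw [mul_assoc, F.Uab h.ij _ hum y hy, ← mul_assoc, hc y hy, mul_assoc]
  have c2 : ∀ y ∈ U k l, All U (cm (u * u'') y) := by
    intro y hy
    have e1 : All U (cm u'' y * (cm u y)⁻¹) := F.two2 h.b.a.b hu' hc' hy
    have S := F.two1 h hu hc (Or.inr (Or.inr hy))
    set s := cm u'' y * (cm u y)⁻¹ with hs
    have e2 : cm u'' y = s * cm u y := by rw [hs]; group
    have e3 : cj u s = s := cj_eq_of_comm (F.Uab h.ik u hu _ (e1 i k h.ik))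
    have e4 : cj (u * u'') y = s * y := by
      rw [← cj_cj, cj_eq_cm u'' y, e2, cj_mul, cj_mul, e3, cj_eq_cm u y, cj_eq_of_comm (hc _ S.1), mul_assoc s,
        ← mul_assoc (cm u y), F.Usq h.ij _ S.1, one_mul]
    have e5 : cm (u * u'') y = s := by
      rw [cm_eq, e4, mul_inv_cancel_right]
    rw [e5]
    exact e1
  have h1 := F.core h _ hcW c1 c2
  have h2 := mul_mem h1 (inv_mem (F.UQ h.ij hum))
  rwa [mul_inv_cancel_right] at h2

/-- Theorem C, second form: `u ∈ ⟨z_j⟩ Σ_ijk` -/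
theorem thmC' (h : D4 i j k l) {u : G} (hu : u ∈ U i k) (hc : Cen U u i j) : PP ε U i k j u :=
  F.ppQ h.ij h.ik.symm h.jk.symm hu (F.thmC h hu hc)

end FrS

end Cfsg.Agent.Omega.NSix.EngineS

end

section


/-!
# `DiCoreAbs.core_abs` (helper439 #14261 (2.4)) with `N_G(O²(O))` in place of `N_G(O)`

Needed for the `Σ`-version of THEOREM C (#18783, helper726).
-/

set_option autoImplicit false

namespace Cfsg.Agent.Omega.NSix.EngineS.CoreAbs

open Subgroup Cfsg Cfsg.Agent.ZN Cfsg.Agent.MinSimple.VModule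
open Cfsg.Agent.Omega.TTn.DiCoreAbs (oddGen_sup mem_norm_of cmod)

variable {G : Type*} [Group G]

/-- **(2.4)** -/
theorem core_abs' [Finite G] {N C O L : Subgroup G} {F : Set G} (hCN : C ≤ N)
    (hC : N ≤ normalizer (C : Set G)) (hOC : O ≤ C) (hO : C ≤ normalizer (O : Set G))
    (hQO : o2 N ≤ normalizer (O : Set G)) (hFN : ∀ f ∈ F, f ∈ N)
    (hF : ∀ f ∈ F, ∀ c ∈ O, f * c * f⁻¹ * c⁻¹ ∈ o2 N)
    (hL : (L : Set G) ⊆ closure (F ∪ (normalizer (oddGen O : Set G) : Set G))) {c l f : G} (hl : l ∈ L) (hf : f ∈ F)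
    (hcf : c = l * f * l⁻¹) (hc : c ∈ O) {k : ℕ} (hk : c ^ 2 ^ k = 1) : c ∈ o2 N := by
  have : Fact (Nat.Prime 2) := ⟨Nat.prime_two⟩
  set E := oddGen O with hE
  have hEO : E ≤ O := oddGen_le O
  -- `O²(O O₂(N)) = O²(O)`
  have hE2 : oddGen (O ⊔ o2 N) = E := by
    refine le_antisymm ?_ (oddGen_mono le_sup_left)
    have h1 : oddGen (O ⊔ o2 N) ≤ O := oddGen_le_of_sup (K := O) (S := o2 N) (sup_le le_normalizer hQO)
      le_rfl le_sup_right le_sup_left (o2_isPGroup N)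
    rw [oddGen_def, closure_le]
    rintro x ⟨hx, ho⟩
    exact mem_oddGen (h1 (mem_oddGen hx ho)) ho
  -- `F` normalises `O O₂(N)`
  have hFn : ∀ f ∈ F, f ∈ normalizer (E : Set G) := by
    intro f hf
    have h1 : f ∈ normalizer ((O ⊔ o2 N : Subgroup G) : Set G) := by
      refine mem_norm_of fun x hx => ?_
      have h2 : (O ⊔ o2 N) ≤ (O ⊔ o2 N).comap (MulAut.conj f).toMonoidHom := by
        refine sup_le (fun x hx => ?_) fun x hx => ?_
        · rw [mem_comap]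
          change f * x * f⁻¹ ∈ _
          have h3 : f * x * f⁻¹ = f * x * f⁻¹ * x⁻¹ * x := by group
          rw [h3]
          exact mul_mem (mem_sup_right (hF f hf x hx)) (mem_sup_left hx)
        · rw [mem_comap]
          change f * x * f⁻¹ ∈ _
          exact mem_sup_right ((mem_normalizer_iff.1 (le_normalizer_o2 N (hFN f hf)) x).1 hx)
      exact h2 hx
    have h2 := normalizer_le_normalizer_oddGen _ h1
    rwa [hE2] at h2
  have hLE : L ≤ normalizer (E : Set G) := by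
    intro g hg
    have h1 : closure (F ∪ (normalizer (oddGen O : Set G) : Set G)) ≤ normalizer (E : Set G) := by
      rw [closure_le]
      rintro x (hx | hx)
      · exact hFn x hx
      · exact hx
    exact h1 (hL hg)
  -- `[F, E] ≤ O₂(E)`
  have hEN : E ≤ N := hEO.trans (hOC.trans hCN)
  have hEo : E ⊓ o2 N ≤ o2 E := by
    refine le_o2 inf_le_left ((o2_isPGroup N).to_le inf_le_right) fun x hx => ?_
    refine mem_norm_of fun y hy => mem_inf.2 ⟨mul_mem (mul_mem hx hy.1) (inv_mem hx), ?_⟩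
    exact (mem_normalizer_iff.1 (le_normalizer_o2 N (hEN hx)) y).1 hy.2
  have hFE : ∀ f ∈ F, ∀ e ∈ E, f * e * f⁻¹ * e⁻¹ ∈ o2 E := fun f hf e he =>
    hEo (mem_inf.2 ⟨mul_mem ((mem_normalizer_iff.1 (hFn f hf) e).1 he) (inv_mem he), hF f hf e (hEO he)⟩)
  have hno : normalizer (E : Set G) ≤ normalizer (o2 E : Set G) := by
    intro g hg
    refine mem_norm_of fun x hx => ?_
    have h1 : (o2 E).map (MulAut.conj g).toMonoidHom ≤ o2 E := by
      refine le_o2 ?_ ((o2_isPGroup E).map _) ?_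
      · rintro _ ⟨y, hy, rfl⟩
        exact (mem_normalizer_iff.1 hg y).1 (o2_le E hy)
      · intro e he
        refine mem_norm_of ?_
        rintro _ ⟨y, hy, rfl⟩
        have h2 : g⁻¹ * e * g ∈ E := by
          have := (mem_normalizer_iff.1 (inv_mem hg) e).1 he
          rwa [inv_inv] at this
        refine ⟨g⁻¹ * e * g * y * (g⁻¹ * e * g)⁻¹, (mem_normalizer_iff.1 (le_normalizer_o2 E h2) y).1 hy, ?_⟩
        change g * (g⁻¹ * e * g * y * (g⁻¹ * e * g)⁻¹) * g⁻¹ = e * (g * y * g⁻¹) * e⁻¹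
        group
    exact h1 ⟨x, hx, rfl⟩
  have hOE : O ≤ normalizer (o2 E : Set G) := (le_normalizer_oddGen O).trans hno
  have hOD : ∀ g ∈ O, ∀ x ∈ o2 E, g * x * g⁻¹ ∈ o2 E := fun g hg x hx =>
    (mem_normalizer_iff.1 (hOE hg) x).1 hx
  set C₁ := cmod O E (o2 E) hOD with hC₁
  have hC₁O : C₁ ≤ O := fun g hg => hg.1
  -- `c ∈ C₁`
  have hc₁ : c ∈ C₁ := by
    refine ⟨hc, fun e he => ?_⟩
    have h1 : l⁻¹ * e * l ∈ E := by
      have := (mem_normalizer_iff.1 (inv_mem (hLE hl)) e).1 he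
      rwa [inv_inv] at this
    have h2 := hFE f hf _ h1
    have h3 := (mem_normalizer_iff.1 (hno (hLE hl)) _).1 h2
    have h4 : l * (f * (l⁻¹ * e * l) * f⁻¹ * (l⁻¹ * e * l)⁻¹) * l⁻¹ = c * e * c⁻¹ * e⁻¹ := by
      rw [hcf]; group
    rwa [h4] at h3
  have hC₁n : O ≤ normalizer (C₁ : Set G) := by
    intro g hg
    refine mem_norm_of fun x hx => ⟨mul_mem (mul_mem hg hx.1) (inv_mem hg), fun e he => ?_⟩
    have hgE := le_normalizer_oddGen O hg
    have h1 : g⁻¹ * e * g ∈ E := by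
      have := (mem_normalizer_iff.1 (inv_mem hgE) e).1 he
      rwa [inv_inv] at this
    have h2 := hOD g hg _ (hx.2 _ h1)
    have h3 : g * (x * (g⁻¹ * e * g) * x⁻¹ * (g⁻¹ * e * g)⁻¹) * g⁻¹ = g * x * g⁻¹ * e * (g * x * g⁻¹)⁻¹ * e⁻¹ := by
      group
    rwa [h3] at h2
  -- a Sylow 2-subgroup of `C₁` which contains `c`
  have hz : IsPGroup 2 (zpowers (⟨c, hc₁⟩ : C₁)) := by
    rw [IsPGroup.iff_orderOf]
    rintro ⟨x, hx⟩
    obtain ⟨j, hj⟩ := mem_zpowers_iff.1 hx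
    have h1 : orderOf (⟨x, hx⟩ : zpowers (⟨c, hc₁⟩ : C₁)) ∣ 2 ^ k := by
      rw [orderOf_dvd_iff_pow_eq_one]
      apply Subtype.ext
      change x ^ 2 ^ k = 1
      rw [← hj, ← zpow_natCast, ← zpow_mul, mul_comm, zpow_mul, zpow_natCast]
      have h2 : (⟨c, hc₁⟩ : C₁) ^ 2 ^ k = 1 := Subtype.ext (by rw [coe_pow]; exact hk)
      rw [h2, one_zpow]
    obtain ⟨m, -, hm⟩ := (Nat.dvd_prime_pow Nat.prime_two).1 h1
    exact ⟨m, hm⟩
  obtain ⟨R', hR'⟩ := hz.exists_le_sylow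
  set R : Subgroup G := (R' : Subgroup C₁).map C₁.subtype with hR
  have hRC : R ≤ C₁ := map_subtype_le _
  have hRp : IsPGroup 2 R := R'.isPGroup'.map _
  have hcR : c ∈ R := ⟨⟨c, hc₁⟩, hR' (mem_zpowers _), rfl⟩
  have hRs : ¬ 2 ∣ R.relIndex C₁ := by
    have h1 : R.subgroupOf C₁ = (R' : Subgroup C₁) := by
      rw [hR, subgroupOf, comap_map_eq_self_of_injective C₁.subtype_injective]
    rw [relIndex, h1]
    exact R'.not_dvd_index
  have hgen := oddGen_sup hRC hRs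
  -- `O₂(E) ≤ R`
  have hEC : o2 E ≤ C₁ := by
    intro x hx
    refine ⟨hEO (o2_le E hx), fun e he => ?_⟩
    have h1 := (mem_normalizer_iff.1 (le_normalizer_o2 E he) _).1 (inv_mem hx)
    have h2 : x * e * x⁻¹ * e⁻¹ = x * (e * x⁻¹ * e⁻¹) := by group
    rw [h2]
    exact mul_mem hx h1
  have hER : o2 E ≤ R := by
    have h1 : o2 E ≤ o2 C₁ := le_o2 hEC (o2_isPGroup E) (hC₁O.trans hOE)
    exact h1.trans (o2_le_of_sylow hRp hRs)
  -- `R` is normal in `C₁`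
  have hRn : C₁ ≤ normalizer (R : Set G) := by
    have h1 : oddGen C₁ ≤ normalizer (R : Set G) := by
      intro x hx
      have hxE : x ∈ E := oddGen_mono hC₁O hx
      have hxC : x ∈ C₁ := oddGen_le C₁ hx
      refine mem_norm_of fun r hr => ?_
      have h2 := (hRC hr).2 x hxE
      have h3 : x * r * x⁻¹ = (r * x * r⁻¹ * x⁻¹)⁻¹ * r := by group
      rw [h3]
      exact mul_mem (inv_mem (hER h2)) hr
    calc C₁ = oddGen C₁ ⊔ R := hgen.symm
      _ ≤ _ := sup_le h1 le_normalizer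
  have h1 : c ∈ o2 C₁ := le_o2 hRC hRp hRn hcR
  have hno2 : ∀ {A B : Subgroup G}, B ≤ A → A ≤ normalizer (B : Set G) → o2 B ≤ o2 A := by
    intro A B hBA hAB
    refine le_o2 ((o2_le B).trans hBA) (o2_isPGroup B) ?_
    intro g hg
    refine mem_norm_of fun x hx => ?_
    have h1 : (o2 B).map (MulAut.conj g).toMonoidHom ≤ o2 B := by
      refine le_o2 ?_ ((o2_isPGroup B).map _) ?_
      · rintro _ ⟨y, hy, rfl⟩
        exact (mem_normalizer_iff.1 (hAB hg) y).1 (o2_le B hy)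
      · intro e he
        refine mem_norm_of ?_
        rintro _ ⟨y, hy, rfl⟩
        have h2 : g⁻¹ * e * g ∈ B := by
          have := (mem_normalizer_iff.1 (inv_mem (hAB hg)) e).1 he
          rwa [inv_inv] at this
        refine ⟨g⁻¹ * e * g * y * (g⁻¹ * e * g)⁻¹, (mem_normalizer_iff.1 (le_normalizer_o2 B h2) y).1 hy, ?_⟩
        change g * (g⁻¹ * e * g * y * (g⁻¹ * e * g)⁻¹) * g⁻¹ = e * (g * y * g⁻¹) * e⁻¹
        group
    exact h1 ⟨x, hx, rfl⟩
  exact hno2 hCN hC (hno2 hOC hO (hno2 hC₁O hC₁n h1))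

end Cfsg.Agent.Omega.NSix.EngineS.CoreAbs

end
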